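import Groth.Agent.Lib.GammaD.Tau
import Mathlib.RingTheory.MvPolynomial.Homogeneous

/-! Elementary symmetric tensors generate the multisymmetric coefficients of `y ⊗ ⋯ ⊗ y`. -/

universe u
open scoped TensorProduct

namespace Groth.Agent.SymTenH28

open Groth.Agent.GammaD Finset

variable {A : Type u} [CommRing A] {B : Type u} [CommRing B] [Algebra A B]

/-- A coordinate embedding. -/
noncomputable abbrev sgl (d : ℕ) (l : Fin d) : B →ₐ[A] Tpow A B d :=
  PiTensorProduct.singleAlgHom (R := A) (A := fun _ : Fin d => B) l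

/-- The elementary symmetric tensors. -/
def elemSet (A B : Type u) [CommRing A] [CommRing B] [Algebra A B] (d : ℕ) : Set (Tpow A B d) :=
  {t | ∃ (a : B) (j : ℕ), t = ∑ I ∈ (Finset.univ : Finset (Fin d)).powersetCard j,
    PiTensorProduct.tprod A (fun i : Fin d => if i ∈ I then a else (1 : B))}

/-- The generating function. -/
noncomputable def Phi (A : Type u) [CommRing A] [Algebra A B] (d : ℕ) {ι : Type u} (s : Finset ι) (a : ι → B) :
    MvPolynomial ι (Tpow A B d) :=
  ∏ l : Fin d, (1 + ∑ i ∈ s, MvPolynomial.C (sgl (A := A) d l (a i)) * MvPolynomial.X i)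

variable {d : ℕ}

lemma left_mem {ι : Type u} (s : Finset ι) (a : ι → B) (k : ι →₀ ℕ) :
    MvPolynomial.coeff k (∏ i ∈ s, ∏ l : Fin d, (1 + MvPolynomial.C (sgl (A := A) d l (a i)) * MvPolynomial.X i))
      ∈ Algebra.adjoin A (elemSet A B d) := by
  classical
  set S' := Algebra.adjoin A (elemSet A B d)
  suffices h : ∀ i ∈ s, ∃ q : MvPolynomial ι S', MvPolynomial.map (σ := ι) S'.val.toRingHom q =
      ∏ l : Fin d, (1 + MvPolynomial.C (sgl (A := A) d l (a i)) * MvPolynomial.X i) by
    choose q hq using h
    rw [← Finset.prod_attach, ← Finset.prod_congr rfl fun (i : {x // x ∈ s}) _ => hq i.1 i.2, ← map_prod,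
      MvPolynomial.coeff_map]
    exact (MvPolynomial.coeff k (∏ i ∈ s.attach, q i.1 i.2)).2
  intro i _
  have hg : ∀ j : ℕ, (∑ I ∈ (univ : Finset (Fin d)).powersetCard j, ∏ l ∈ I, sgl (A := A) d l (a i)) ∈ S' := by
    intro j
    refine Algebra.subset_adjoin ⟨a i, j, Finset.sum_congr rfl fun I _ => ?_⟩
    rw [← prod_single]
    simp only [sgl, apply_ite (PiTensorProduct.singleAlgHom (R := A) (A := fun _ : Fin d => B) _), map_one]
    rw [Finset.prod_ite_mem, Finset.univ_inter]
  refine ⟨∑ j ∈ range (d + 1), MvPolynomial.C (⟨_, hg j⟩ : S') * MvPolynomial.X i ^ j, ?_⟩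
  simp only [map_sum, map_mul, map_pow, MvPolynomial.map_C, MvPolynomial.map_X]
  rw [Finset.prod_one_add, Finset.sum_powerset, Finset.card_univ, Fintype.card_fin]
  refine Finset.sum_congr rfl fun j _ => ?_
  rw [show S'.val.toRingHom ⟨_, hg j⟩ = ∑ I ∈ (univ : Finset (Fin d)).powersetCard j,
    ∏ l ∈ I, sgl (A := A) d l (a i) from rfl, map_sum, Finset.sum_mul]
  refine Finset.sum_congr rfl fun I hI => ?_
  rw [Finset.prod_mul_distrib, map_prod, Finset.prod_const, (Finset.mem_powersetCard.1 hI).2]

open scoped Classical in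
/-- The exponent of a set of variables. -/
noncomputable def expo {ι : Type u} (m : Finset ι →₀ ℕ) : ι →₀ ℕ :=
  m.sum fun J j => j • ∑ i ∈ J, Finsupp.single i 1

/-- A weighted monomial substitution. -/
noncomputable def theta {T : Type u} [CommRing T] {ι : Type u} (w : Finset ι → T) :
    MvPolynomial (Finset ι) T →ₐ[T] MvPolynomial ι T :=
  MvPolynomial.aeval fun J => MvPolynomial.C (w J) * MvPolynomial.monomial (∑ i ∈ J, Finsupp.single i 1) 1

open scoped Classical in
lemma coeff_theta {T : Type u} [CommRing T] {ι : Type u} (w : Finset ι → T) (P : MvPolynomial (Finset ι) T)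
    (k : ι →₀ ℕ) :
    MvPolynomial.coeff k (theta w P) = ∑ m ∈ P.support,
      if expo m = k then MvPolynomial.coeff m P * m.prod (fun J j => w J ^ j) else 0 := by
  conv_lhs => rw [MvPolynomial.as_sum P, map_sum, MvPolynomial.coeff_sum]
  refine Finset.sum_congr rfl fun m _ => ?_
  have h : m.prod (fun J j => (MvPolynomial.C (w J) * MvPolynomial.monomial (∑ i ∈ J, Finsupp.single i 1) 1 :
      MvPolynomial ι T) ^ j) = MvPolynomial.monomial (expo m) (m.prod fun J j => w J ^ j) := by
    simp only [Finsupp.prod, expo, Finsupp.sum, mul_pow, MvPolynomial.monomial_pow, one_pow, ← map_pow,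
      MvPolynomial.C_mul_monomial, mul_one]
    exact (MvPolynomial.monomial_sum_prod m.support _ _).symm
  rw [theta, MvPolynomial.aeval_monomial, h, MvPolynomial.algebraMap_eq, MvPolynomial.C_mul_monomial,
    MvPolynomial.coeff_monomial]

theorem coeff_Phi_mem : ∀ (N : ℕ) {ι : Type u} (s : Finset ι) (a : ι → B) (k : ι →₀ ℕ),
    Finsupp.degree k < N → MvPolynomial.coeff k (Phi A d s a) ∈ Algebra.adjoin A (elemSet A B d) := by
  intro N
  induction N with
  | zero => intro ι s a k hk; omega
  | succ N ih =>
    intro ι s a k hk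
    classical
    set S' := Algebra.adjoin A (elemSet A B d)
    let a' : Finset ι → B := fun J => ∏ i ∈ J, a i
    let s' := s.powerset.filter fun J => J.Nonempty
    let w₁ : Finset ι → Tpow A B d := fun J => if J.Nonempty then 1 else 0
    let w₂ : Finset ι → Tpow A B d := fun J => if J.card = 1 then 1 else 0
    have h1 : theta w₁ (Phi A d s' a') = ∏ i ∈ s, ∏ l : Fin d,
        (1 + MvPolynomial.C (sgl (A := A) d l (a i)) * MvPolynomial.X i) := by
      rw [Finset.prod_comm]
      simp only [Phi, map_prod, map_add, map_one, map_sum, map_mul, theta, MvPolynomial.aeval_C,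
        MvPolynomial.aeval_X, MvPolynomial.algebraMap_eq]
      refine Finset.prod_congr rfl fun l _ => ?_
      rw [Finset.prod_one_add, ← Finset.sum_filter_add_sum_filter_not s.powerset (fun J => J.Nonempty),
        add_comm]
      have he : s.powerset.filter (fun J => ¬ J.Nonempty) = {∅} := by
        ext J; simp [Finset.not_nonempty_iff_eq_empty]; rintro rfl; exact Finset.empty_subset _
      rw [he, Finset.sum_singleton, Finset.prod_empty]
      congr 1
      refine Finset.sum_congr rfl fun J hJ => ?_
      simp only [w₁, if_pos (Finset.mem_filter.1 hJ).2, map_one, one_mul, a', map_prod]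
      rw [MvPolynomial.monomial_sum_one, Finset.prod_mul_distrib]
      rfl
    have h2 : theta w₂ (Phi A d s' a') = Phi A d s a := by
      simp only [Phi, map_prod, map_add, map_one, map_sum, map_mul, theta, MvPolynomial.aeval_C,
        MvPolynomial.aeval_X, MvPolynomial.algebraMap_eq]
      refine Finset.prod_congr rfl fun l _ => ?_
      congr 1
      rw [← Finset.sum_filter_add_sum_filter_not s' (fun J => J.card = 1)]
      rw [Finset.sum_eq_zero (s := s'.filter fun J => ¬ J.card = 1) (fun J hJ => by
        simp [w₂, (Finset.mem_filter.1 hJ).2]), add_zero]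
      symm
      refine Finset.sum_bij (fun i _ => ({i} : Finset ι)) ?_ ?_ ?_ ?_
      · intro i hi; simp [s', hi]
      · intro i _ j _ h; exact Finset.singleton_injective h
      · intro J hJ
        simp only [s', Finset.mem_filter, Finset.mem_powerset] at hJ
        obtain ⟨i, rfl⟩ := Finset.card_eq_one.1 hJ.2
        exact ⟨i, hJ.1.1 (Finset.mem_singleton_self i), rfl⟩
      · intro i _
        simp [w₂, a', MvPolynomial.X]
    rw [← h2, ← sub_sub_cancel (MvPolynomial.coeff k (theta w₁ (Phi A d s' a')))
      (MvPolynomial.coeff k (theta w₂ (Phi A d s' a')))]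
    refine sub_mem (h1 ▸ left_mem s a k) ?_
    rw [coeff_theta, coeff_theta, ← Finset.sum_sub_distrib]
    refine Subalgebra.sum_mem _ fun m _ => ?_
    split_ifs with hm
    swap
    · rw [sub_zero]; exact zero_mem _
    rw [← mul_sub]
    by_cases hne : ∀ J ∈ m.support, J.Nonempty
    swap
    · push Not at hne
      obtain ⟨J, hJ, hJ0⟩ := hne
      have e1 : m.prod (fun J j => w₁ J ^ j) = 0 :=
        Finset.prod_eq_zero hJ (by simp only [w₁, Finset.not_nonempty_empty, if_false, hJ0]; exact zero_pow (Finsupp.mem_support_iff.1 (hJ0 ▸ hJ)))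
      have e2 : m.prod (fun J j => w₂ J ^ j) = 0 :=
        Finset.prod_eq_zero hJ (by simp only [w₂, hJ0, Finset.card_empty, zero_ne_one, if_false]; exact zero_pow (Finsupp.mem_support_iff.1 (hJ0 ▸ hJ)))
      rw [e1, e2, sub_zero, mul_zero]; exact zero_mem _
    have e1 : m.prod (fun J j => w₁ J ^ j) = 1 :=
      Finset.prod_eq_one fun J hJ => by simp [w₁, hne J hJ]
    by_cases hone : ∀ J ∈ m.support, J.card = 1
    · have e2 : m.prod (fun J j => w₂ J ^ j) = 1 :=
        Finset.prod_eq_one fun J hJ => by simp [w₂, hone J hJ]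
      rw [e1, e2, sub_self, mul_zero]; exact zero_mem _
    · push Not at hone
      obtain ⟨J, hJ, hJ1⟩ := hone
      have e2 : m.prod (fun J j => w₂ J ^ j) = 0 :=
        Finset.prod_eq_zero hJ (by simp [w₂, hJ1, Finsupp.mem_support_iff.1 hJ])
      rw [e1, e2, sub_zero, mul_one]
      refine ih s' a' m ?_
      have hdeg : Finsupp.degree k = ∑ J ∈ m.support, m J * J.card := by
        rw [← hm, expo, Finsupp.sum, map_sum]
        refine Finset.sum_congr rfl fun J _ => ?_
        rw [map_nsmul, map_sum]
        simp [Finsupp.degree_single]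
      have : Finsupp.degree m < ∑ J ∈ m.support, m J * J.card := by
        rw [Finsupp.degree_apply]
        refine Finset.sum_lt_sum (fun K hK => Nat.le_mul_of_pos_right _ (hne K hK).card_pos) ⟨J, hJ, ?_⟩
        have := (hne J hJ).card_pos
        exact (Nat.lt_mul_iff_one_lt_right (Nat.pos_of_ne_zero (Finsupp.mem_support_iff.1 hJ))).2 (by omega)
      omega

variable {M : Type u} [Nonempty M] (bP : Module.Basis M A B)

theorem gam_mem (o : M →₀ ℕ) (ho : Finsupp.degree o = d) :
    gam bP (tlLaw A B d).law o ∈ Algebra.adjoin A (elemSet A B d) := by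
  classical
  let ev : MvPolynomial M A ⊗[A] Tpow A B d →ₐ[A] MvPolynomial M (Tpow A B d) :=
    Algebra.TensorProduct.lift (MvPolynomial.aeval MvPolynomial.X) (IsScalarTower.toAlgHom A _ _)
      (fun _ _ => Commute.all _ _)
  have hev : ∀ z, coefT o z = MvPolynomial.coeff o (ev z) := by
    intro z
    induction z using TensorProduct.induction_on with
    | zero => simp
    | add x y hx hy => simp only [map_add, hx, hy, MvPolynomial.coeff_add]
    | tmul p t =>
      rw [coefT_tmul]
      simp only [ev, Algebra.TensorProduct.lift_tmul, IsScalarTower.coe_toAlgHom',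
        MvPolynomial.algebraMap_eq]
      have : (MvPolynomial.aeval (MvPolynomial.X : M → MvPolynomial M (Tpow A B d))) p
          = MvPolynomial.map (algebraMap A (Tpow A B d)) p := by
        induction p using MvPolynomial.induction_on with
        | C r => simp [MvPolynomial.algebraMap_apply]
        | add p q hp hq => simp [hp, hq]
        | mul_X p i hp => simp [hp]
      rw [this, mul_comm, MvPolynomial.coeff_C_mul, MvPolynomial.coeff_map, Algebra.smul_def, mul_comm]
  set L : Fin d → MvPolynomial M (Tpow A B d) := fun l =>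
    ∑ i ∈ o.support, MvPolynomial.C (sgl (A := A) d l (bP i)) * MvPolynomial.X i with hL
  have h1 : gam bP (tlLaw A B d).law o = MvPolynomial.coeff o (∏ l, L l) := by
    rw [gam, hev]
    congr 1
    show ev (tl A B d _ (gen bP o.support)) = _
    rw [tl, map_prod]
    refine Finset.prod_congr rfl fun l _ => ?_
    rw [gen, map_sum, map_sum]
    refine Finset.sum_congr rfl fun i _ => ?_
    simp [ev, mul_comm]
  have h2 : MvPolynomial.coeff o (Phi A d o.support fun i => bP i) = MvPolynomial.coeff o (∏ l, L l) := by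
    rw [Phi, Finset.prod_one_add, MvPolynomial.coeff_sum, Finset.sum_eq_single (univ : Finset (Fin d))]
    · intro I hI hne
      refine MvPolynomial.IsHomogeneous.coeff_eq_zero
        (MvPolynomial.IsHomogeneous.prod I L (fun _ => 1) fun l _ => ?_) ?_
      · exact MvPolynomial.IsHomogeneous.sum _ _ _ fun i _ =>
          MvPolynomial.isHomogeneous_C_mul_X _ _
      · rw [Finset.sum_const, smul_eq_mul, mul_one, ho]
        intro h
        exact hne (Finset.eq_univ_of_card _ (by rw [Fintype.card_fin]; exact h.symm))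
    · simp
  rw [h1, ← h2]
  exact coeff_Phi_mem (Finsupp.degree o + 1) _ _ _ (Nat.lt_succ_self _)

theorem orbP_mem (t : Tpow A B d) : orbP d bP t ∈ Algebra.adjoin A (elemSet A B d) := by
  classical
  have ht : t ∈ (⊤ : Submodule A (Tpow A B d)) := trivial
  rw [← (Basis.piTensorProduct fun _ : Fin d => bP).span_eq] at ht
  refine (Submodule.span_le (p := (Subalgebra.toSubmodule (Algebra.adjoin A (elemSet A B d))).comap (orbP d bP))).2 ?_ ht
  rintro _ ⟨c, rfl⟩
  rw [SetLike.mem_coe, Submodule.mem_comap, Basis.piTensorProduct_apply, orbP, ghat_tprod]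
  split
  · exact gam_mem bP _ (cnt_degree c)
  · exact zero_mem _

theorem elemSet_subset_TS : elemSet A B d ⊆ (SymTen.TS A B d : Set (Tpow A B d)) := by
  classical
  rintro _ ⟨a, j, rfl⟩ σ
  rw [map_sum]
  refine Finset.sum_bij (fun I _ => I.map σ.toEmbedding) ?_ ?_ ?_ ?_
  · intro I hI
    simp only [Finset.mem_powersetCard, Finset.subset_univ, true_and, Finset.card_map] at hI ⊢
    exact hI
  · intro I _ J _ h; exact Finset.map_injective _ h
  · intro J hJ
    refine ⟨J.map σ.symm.toEmbedding, ?_, by simp [Finset.map_map]⟩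
    simp only [Finset.mem_powersetCard, Finset.subset_univ, true_and, Finset.card_map] at hJ ⊢
    exact hJ
  · intro I _
    rw [PiTensorProduct.reindex_tprod]
    congr 1
    funext l
    simp [Finset.mem_map_equiv]

end Groth.Agent.SymTenH28
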