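import Groth.Agent.Lib.GammaD.Tau

/-! Polarisation: symmetrised pure tensors are combinations of diagonal ones. -/

universe u
open scoped TensorProduct

namespace Groth.Agent.SymTenH28

open Groth.Agent.GammaD Finset

variable {A : Type u} [CommRing A] {B : Type u} [CommRing B] [Algebra A B] {d : ℕ}

theorem symL_tprod_mem_span (g : Fin d → B) :
    symL A B d (PiTensorProduct.tprod A g) ∈
      Submodule.span A (Set.range fun b : B => PiTensorProduct.tprod A (fun _ : Fin d => b)) := by
  classical
  have key : ∀ c : Fin d → Fin d, (∑ T ∈ (univ : Finset (Fin d)).powerset,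
      if (univ.image c) ⊆ T then ((-1 : ℤ) ^ Tᶜ.card) else 0)
      = if Function.Bijective c then 1 else 0 := by
    intro c
    rw [← Finset.sum_filter]
    have e : ∑ T ∈ (univ : Finset (Fin d)).powerset.filter (fun T => univ.image c ⊆ T), ((-1 : ℤ) ^ Tᶜ.card)
        = ∑ U ∈ (univ.image c)ᶜ.powerset, (-1 : ℤ) ^ U.card := by
      refine Finset.sum_nbij' (fun T => Tᶜ) (fun U => Uᶜ) ?_ ?_ ?_ ?_ (fun _ _ => rfl)
      · intro T hT
        simp only [mem_filter] at hT
        simpa [mem_powerset, compl_subset_compl] using hT.2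
      · intro U hU
        simp only [mem_powerset] at hU
        simp only [mem_filter, mem_powerset, subset_univ, true_and]
        simpa using compl_subset_compl.2 hU
      · intro T _; simp
      · intro U _; simp
    rw [e, Finset.sum_powerset_neg_one_pow_card]
    refine if_congr ?_ rfl rfl
    rw [compl_eq_empty_iff, ← Finite.surjective_iff_bijective]
    constructor
    · intro h j
      obtain ⟨i, -, hi⟩ := mem_image.1 (h.symm ▸ mem_univ j : j ∈ univ.image c)
      exact ⟨i, hi⟩
    · exact fun h => Finset.image_univ_of_surjective h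
  have hT : ∀ T : Finset (Fin d), PiTensorProduct.tprod A (fun _ : Fin d => ∑ i ∈ T, g i)
      = ∑ c : Fin d → Fin d, if univ.image c ⊆ T then PiTensorProduct.tprod A (g ∘ c) else 0 := by
    intro T
    rw [MultilinearMap.map_sum_finset, ← Finset.sum_filter]
    refine Finset.sum_congr ?_ fun _ _ => rfl
    ext c
    simp [Fintype.mem_piFinset, image_subset_iff]
  have hsym : symL A B d (PiTensorProduct.tprod A g)
      = ∑ c ∈ (univ : Finset (Fin d → Fin d)).filter Function.Bijective, PiTensorProduct.tprod A (g ∘ c) := by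
    rw [symL_apply]
    refine Finset.sum_bij (fun σ _ => ⇑σ.symm) (fun σ _ => mem_filter.2 ⟨mem_univ _, σ.symm.bijective⟩) ?_ ?_ ?_
    · intro σ _ τ _ h
      exact Equiv.symm_bijective.injective (Equiv.coe_fn_injective h)
    · intro c hc
      exact ⟨(Equiv.ofBijective c (mem_filter.1 hc).2).symm, mem_univ _, funext fun i => rfl⟩
    · intro σ _
      rw [SymTen.perm_tprod]
      rfl
  have e : symL A B d (PiTensorProduct.tprod A g) = ∑ T ∈ (univ : Finset (Fin d)).powerset,
      ((((-1 : ℤ) ^ Tᶜ.card : ℤ)) : A) • PiTensorProduct.tprod A (fun _ : Fin d => ∑ i ∈ T, g i) := by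
    simp only [hT, Finset.smul_sum, smul_ite, smul_zero]
    rw [Finset.sum_comm, hsym, Finset.sum_filter]
    refine Finset.sum_congr rfl fun c _ => ?_
    have h : (∑ T ∈ (univ : Finset (Fin d)).powerset,
        if univ.image c ⊆ T then ((((-1 : ℤ) ^ Tᶜ.card : ℤ)) : A) • PiTensorProduct.tprod A (g ∘ c) else 0)
        = (((if Function.Bijective c then (1 : ℤ) else 0) : ℤ) : A) • PiTensorProduct.tprod A (g ∘ c) := by
      rw [← key c, Int.cast_sum, Finset.sum_smul]
      exact Finset.sum_congr rfl fun T _ => by split_ifs <;> simp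
    rw [h]
    split_ifs <;> simp
  rw [e]
  exact Submodule.sum_mem _ fun T _ => Submodule.smul_mem _ _ (Submodule.subset_span ⟨_, rfl⟩)

theorem TS_le_span (h : IsUnit ((d.factorial : ℕ) : A)) (y : SymTen.TS A B d) :
    (y : Tpow A B d) ∈ Submodule.span A (Set.range fun b : B => PiTensorProduct.tprod A (fun _ : Fin d => b)) := by
  have hs : ∀ t : Tpow A B d, symL A B d t ∈
      Submodule.span A (Set.range fun b : B => PiTensorProduct.tprod A (fun _ : Fin d => b)) := by
    intro t
    induction t using PiTensorProduct.induction_on with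
    | smul_tprod r g => rw [map_smul]; exact Submodule.smul_mem _ _ (symL_tprod_mem_span g)
    | add a b ha hb => rw [map_add]; exact Submodule.add_mem _ ha hb
  have := hs y
  rw [symL_eq_smul y.2, ← Nat.cast_smul_eq_nsmul A] at this
  have h2 := Submodule.smul_mem _ ((h.unit⁻¹ : Aˣ) : A) this
  rwa [smul_smul, IsUnit.val_inv_mul, one_smul] at h2

end Groth.Agent.SymTenH28
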